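import Cfsg.Agent.Lib.Perm.Groups.DegreeSeven
import Cfsg.Agent.S0713

/-!
# Transitive groups of degree eleven: Sylow counting
-/

set_option autoImplicit false
set_option linter.unusedSectionVars false
set_option linter.style.haveILetI false

namespace CfsgLib.Perm.DegEleven

open MulAction CfsgLib.Perm.Heart

universe u

variable {α : Type u} [Fintype α] [DecidableEq α]

theorem preprimitive (hα : Fintype.card α = 11) (G : Subgroup (Equiv.Perm α)) [IsPretransitive G α] :
    IsPreprimitive G α :=
  IsPreprimitive.of_prime_card (by rw [Nat.card_eq_fintype_card, hα]; norm_num)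

theorem eleven_dvd (hα : Fintype.card α = 11) (G : Subgroup (Equiv.Perm α)) [IsPretransitive G α] :
    11 ∣ Nat.card G := by
  haveI := Fact.mk (show Nat.Prime 11 by norm_num)
  obtain ⟨a⟩ : Nonempty α := Fintype.card_pos_iff.1 (by omega)
  exact ⟨_, (card_stabilizer_mul hα G a).symm⟩

theorem card_sylow [Fact (Nat.Prime 11)] (hα : Fintype.card α = 11) (G : Subgroup (Equiv.Perm α))
    [IsPretransitive G α] (P : Sylow 11 G) : Nat.card (P : Subgroup G) = 11 := by
  obtain ⟨n, hn⟩ := IsPGroup.iff_card.1 P.2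
  rcases n with _ | _ | n
  · exfalso
    have h1 := P.dvd_card_of_dvd_card (eleven_dvd hα G)
    rw [hn] at h1
    norm_num at h1
  · simpa using hn
  · exact absurd ((pow_dvd_pow 11 (by omega)).trans (hn ▸ Subgroup.card_subgroup_dvd_card (P : Subgroup G)))
      (sq_not_dvd hα G)

theorem card_sylow_mul [Fact (Nat.Prime 11)] (G : Subgroup (Equiv.Perm α)) (P : Sylow 11 G) :
    Nat.card (Sylow 11 G) * Nat.card (Subgroup.normalizer ((P : Subgroup G) : Set G)) = Nat.card G := by
  rw [Sylow.card_eq_index_normalizer P, mul_comm]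
  exact Subgroup.card_mul_index (Subgroup.normalizer ((P : Subgroup G) : Set G))

theorem normalizer_facts [Fact (Nat.Prime 11)] (hα : Fintype.card α = 11) (G : Subgroup (Equiv.Perm α))
    [IsPretransitive G α] (P : Sylow 11 G) :
    Nat.card (Subgroup.normalizer ((P : Subgroup G) : Set G)) ∣ 110 ∧
      11 ∣ Nat.card (Subgroup.normalizer ((P : Subgroup G) : Set G)) := by
  constructor
  · have h := DegSeven.card_normalizer_dvd (p := 11) (by omega) G (P : Subgroup G) (card_sylow hα G P)
    simpa [hα] using h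
  · have h := Subgroup.card_dvd_of_le (Subgroup.le_normalizer (H := (P : Subgroup G)))
    rwa [card_sylow hα G P] at h

/-- A permutation reversing the prime field of order 11 is odd. -/
theorem sign_reflection (e : ZMod 11 ≃ α) (t : Equiv.Perm α) (ht : ∀ x, t (e x) = e (-x)) :
    Equiv.Perm.sign t = -1 := by
  have h : t = e.permCongr (Equiv.neg (ZMod 11)) := Equiv.ext fun a => by
    obtain ⟨x, rfl⟩ := e.surjective a
    simp [ht]
  rw [h, Equiv.Perm.sign_permCongr]
  decide

theorem transitive_of_normal_ne_bot (hα : Fintype.card α = 11) (G : Subgroup (Equiv.Perm α))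
    [IsPretransitive G α] (K : Subgroup G) (hKn : K.Normal) (hK : K ≠ ⊥) : IsPretransitive K α := by
  haveI := preprimitive hα G
  haveI := hKn
  apply IsQuasiPreprimitive.isPretransitive_of_normal
  intro hall
  apply hK
  rw [eq_bot_iff]
  intro x hx
  rw [Subgroup.mem_bot]
  refine Subtype.ext (Equiv.ext fun a => ?_)
  exact (Set.eq_univ_iff_forall.1 hall a) ⟨x, hx⟩

theorem eleven_dvd_normal (hα : Fintype.card α = 11) (G : Subgroup (Equiv.Perm α))
    [IsPretransitive G α] (K : Subgroup G) (hKn : K.Normal) (hK : K ≠ ⊥) : 11 ∣ Nat.card K := by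
  haveI := transitive_of_normal_ne_bot hα G K hKn hK
  obtain ⟨a⟩ : Nonempty α := Fintype.card_pos_iff.1 (by omega)
  refine ⟨Nat.card (stabilizer K a), ?_⟩
  rw [← hα, ← Nat.card_eq_fintype_card, ← index_stabilizer_of_transitive K a, mul_comm, Subgroup.card_mul_index]

/-- A transitive group of even permutations: cyclic, or 55 times the number of Sylow 11-subgroups. -/
theorem card_cases [Fact (Nat.Prime 11)] (hα : Fintype.card α = 11) (H : Subgroup (Equiv.Perm α))
    [IsPretransitive H α] (hHA : H ≤ alternatingGroup α) :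
    Nat.card H = 11 ∨ Nat.card H = 55 * Nat.card (Sylow 11 H) := by
  classical
  obtain ⟨P⟩ : Nonempty (Sylow 11 H) := inferInstance
  have hP := card_sylow hα H P
  obtain ⟨hdvd, h11⟩ := normalizer_facts hα H P
  have hodd : ¬ Even (Nat.card (Subgroup.normalizer ((P : Subgroup H) : Set H))) := by
    intro hev
    obtain ⟨c, t, e, -, ht⟩ := exists_reflection hα (by norm_num) H P hev
    have h1 := sign_reflection e (t : Equiv.Perm α) ht
    rw [Equiv.Perm.mem_alternatingGroup.1 (hHA t.2)] at h1
    exact absurd h1 (by decide)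
  have hmul := card_sylow_mul H P
  obtain ⟨N, hN⟩ : ∃ N, N = Nat.card (Subgroup.normalizer ((P : Subgroup H) : Set H)) := ⟨_, rfl⟩
  rw [← hN] at hdvd h11 hodd hmul
  obtain ⟨m, rfl⟩ := h11
  have hm : m ∣ 10 := Nat.dvd_of_mul_dvd_mul_left (show 0 < 11 by norm_num) (by simpa using hdvd)
  have hm' : m = 1 ∨ m = 5 := by
    have h1 : m ∈ Nat.divisors 10 := Nat.mem_divisors.2 ⟨hm, by norm_num⟩
    rw [show Nat.divisors 10 = {1, 2, 5, 10} from by decide] at h1
    simp only [Finset.mem_insert, Finset.mem_singleton] at h1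
    rcases h1 with rfl | rfl | rfl | rfl
    · exact Or.inl rfl
    · exact absurd (by decide) hodd
    · exact Or.inr rfl
    · exact absurd (by decide) hodd
  rcases hm' with rfl | rfl
  · left
    have hcyc : IsCyclic (P : Subgroup H) := isCyclic_of_prime_card hP
    have heq : Subgroup.normalizer ((P : Subgroup H) : Set H) = (P : Subgroup H) :=
      (Subgroup.eq_of_le_of_card_ge Subgroup.le_normalizer (by rw [hP, ← hN])).symm
    have hle : Subgroup.normalizer ((P : Subgroup H) : Set H) ≤ Subgroup.centralizer ((P : Subgroup H) : Set H) := by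
      rw [heq]
      intro x hx
      rw [Subgroup.mem_centralizer_iff]
      intro y hy
      letI : CommGroup (P : Subgroup H) := IsCyclic.commGroup
      exact congrArg Subtype.val (mul_comm (⟨y, hy⟩ : (P : Subgroup H)) ⟨x, hx⟩)
    have hnd := MonoidHom.not_dvd_card_ker_transferSylow P hle
    have hcard := (MonoidHom.ker_transferSylow_isComplement' P hle).card_mul_card
    rw [hP] at hcard
    by_cases hbot : (MonoidHom.transferSylow P hle).ker = ⊥
    · rw [hbot, Subgroup.card_bot, one_mul] at hcard
      exact hcard.symm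
    · exact absurd (eleven_dvd_normal hα H _ inferInstance hbot) hnd
  · right
    omega

/-- A nontrivial normal subgroup contains every Sylow 11-subgroup, so has at least as many of them. -/
theorem card_sylow_le [Fact (Nat.Prime 11)] (hα : Fintype.card α = 11) (G : Subgroup (Equiv.Perm α))
    [IsPretransitive G α] (K : Subgroup G) [hK : K.Normal] (hK11 : 11 ∣ Nat.card K) :
    Nat.card (Sylow 11 G) ≤ Nat.card (Sylow 11 K) := by
  have hle : ∀ P : Sylow 11 G, (P : Subgroup G) ≤ K := by
    intro P x hx
    have hq : (x : G ⧸ K) ^ 11 = 1 := by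
      rw [← QuotientGroup.mk_pow, QuotientGroup.eq_one_iff]
      have : (⟨x, hx⟩ : (P : Subgroup G)) ^ 11 = 1 := by
        have := pow_card_eq_one' (x := (⟨x, hx⟩ : (P : Subgroup G)))
        rwa [card_sylow hα G P] at this
      rw [show x ^ 11 = 1 from congrArg Subtype.val this]
      exact one_mem K
    rcases (Nat.dvd_prime (by norm_num : Nat.Prime 11)).1 (orderOf_dvd_of_pow_eq_one hq) with h | h
    · exact (QuotientGroup.eq_one_iff x).1 (orderOf_eq_one_iff.1 h)
    · exfalso
      apply sq_not_dvd hα G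
      rw [← K.card_mul_index, pow_two]
      exact mul_dvd_mul hK11 (h ▸ orderOf_dvd_natCard (x : G ⧸ K))
  refine Nat.card_le_card_of_injective (fun P : Sylow 11 G => P.subtype (hle P)) fun P Q h => ?_
  exact Sylow.ext (by
    have h' := congrArg (fun R : Sylow 11 K => (R : Subgroup K).map K.subtype) h
    simpa [Sylow.coe_subtype, Subgroup.subgroupOf_map_subtype, inf_of_le_left (hle P),
      inf_of_le_left (hle Q)] using h')

theorem card_sylow_congr {A B : Type*} [Group A] [Group B] [Finite B] {p : ℕ} (e : A ≃* B) :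
    Nat.card (Sylow p A) ≤ Nat.card (Sylow p B) :=
  Nat.card_le_card_of_injective
    (fun R : Sylow p A => R.comapOfInjective e.symm.toMonoidHom e.symm.injective
      fun x _ => ⟨e x, e.symm_apply_apply x⟩) fun R R' h =>
    Sylow.ext (Subgroup.comap_injective e.symm.surjective (congrArg (fun S : Sylow p B => (S : Subgroup B)) h))

/-- No element of order seven, no subgroup of order twenty-five, and no five-cycle. -/
theorem prime_facts (hα : Fintype.card α = 11) (G : Subgroup (Equiv.Perm α)) [IsPretransitive G α]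
    (hA : ¬ alternatingGroup α ≤ G) :
    ¬ 7 ∣ Nat.card G ∧ ¬ 25 ∣ Nat.card G ∧ ∀ g ∈ G, orderOf g = 5 → g.cycleType = {5, 5} := by
  classical
  haveI := Fact.mk (show Nat.Prime 5 by norm_num)
  haveI := Fact.mk (show Nat.Prime 7 by norm_num)
  have hprim := preprimitive hα G
  have hcyc : ∀ g ∈ G, g.IsCycle → g.support.card ≠ 5 ∧ g.support.card ≠ 7 := fun g hg hc =>
    ⟨fun h => hA (Cfsg.Agent.S0713.result G hprim (p := 5) (by norm_num) (by omega) (by omega) hc h hg),
      fun h => hA (Cfsg.Agent.S0713.result G hprim (p := 7) (by norm_num) (by omega) (by omega) hc h hg)⟩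
  refine ⟨fun h7 => ?_, fun h25 => ?_, fun g hg h5 => ?_⟩
  · obtain ⟨x, hx⟩ := exists_prime_orderOf_dvd_card' 7 h7
    have hx' : orderOf (x : Equiv.Perm α) = 7 := by rw [Subgroup.orderOf_coe]; exact hx
    have hc : (x : Equiv.Perm α).IsCycle :=
      Equiv.Perm.isCycle_of_prime_order' (by rw [hx']; norm_num) (by rw [hx', hα]; norm_num)
    exact (hcyc _ x.2 hc).2 (hc.orderOf ▸ hx')
  · obtain ⟨c, hc⟩ : ∃ c : Equiv.Perm α, c.cycleType = {5} :=
      (Equiv.Perm.exists_with_cycleType_iff α).2 ⟨by simp [hα], by simp⟩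
    obtain ⟨Q, hQ⟩ := Sylow.exists_subgroup_card_pow_prime 5 (G := G) (n := 2) (by simpa using h25)
    have hQ' : Nat.card (Q.map G.subtype) = 5 ^ 2 := by
      rw [← hQ]; exact (Nat.card_congr (Q.equivMapOfInjective _ G.subtype_injective).toEquiv).symm
    obtain ⟨S, hS⟩ := (IsPGroup.of_card hQ').exists_le_sylow
    have hS' : Nat.card (S : Subgroup (Equiv.Perm α)) = 5 ^ 2 := by
      have h0 : Nat.card (Equiv.Perm α) = 39916800 := by
        rw [Nat.card_eq_fintype_card, Fintype.card_perm, hα]; rfl
      rw [Sylow.card_eq_multiplicity, h0]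
      congr 1
      rw [show (39916800 : ℕ) = 5 ^ 2 * 1596672 from rfl, Nat.factorization_mul (by norm_num) (by norm_num),
        Nat.Prime.factorization_pow (show Nat.Prime 5 by norm_num)]
      simp [Nat.factorization_eq_zero_of_not_dvd (show ¬ 5 ∣ 1596672 by norm_num)]
    have heq : Q.map G.subtype = S := Subgroup.eq_of_le_of_card_ge hS (by rw [hQ', hS'])
    have hc5 : orderOf c = 5 := by rw [← Equiv.Perm.lcm_cycleType, hc]; simp
    obtain ⟨T, hT⟩ := (IsPGroup.of_card (p := 5) (n := 1) (G := Subgroup.zpowers c)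
      (by rw [Nat.card_zpowers, hc5, pow_one])).exists_le_sylow
    obtain ⟨k, hk⟩ := exists_smul_eq (Equiv.Perm α) T S
    have hmem : k * c * k⁻¹ ∈ (S : Subgroup (Equiv.Perm α)) := by
      rw [← hk, Sylow.coe_subgroup_smul]
      exact Subgroup.smul_mem_pointwise_smul c (MulAut.conj k) (T : Subgroup (Equiv.Perm α)) (hT (Subgroup.mem_zpowers c))
    rw [← heq] at hmem
    obtain ⟨y, -, hy⟩ := hmem
    have hyG : k * c * k⁻¹ ∈ G := hy ▸ y.2
    have hct : (k * c * k⁻¹).cycleType = {5} := by rw [Equiv.Perm.cycleType_conj, hc]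
    have hcy : (k * c * k⁻¹).IsCycle := Equiv.Perm.card_cycleType_eq_one.1 (by rw [hct]; rfl)
    exact (hcyc _ hyG hcy).1 (by rw [← Equiv.Perm.sum_cycleType, hct]; rfl)
  · obtain ⟨n, hn⟩ := Equiv.Perm.cycleType_prime_order (σ := g) (by rw [h5]; norm_num)
    rw [h5] at hn
    have hle : g.cycleType.sum ≤ 11 := by rw [Equiv.Perm.sum_cycleType, ← hα]; exact Finset.card_le_univ _
    rw [hn, Multiset.sum_replicate, smul_eq_mul] at hle
    rcases n with _ | _ | n
    · exfalso
      have hcy : g.IsCycle := Equiv.Perm.card_cycleType_eq_one.1 (by rw [hn]; simp)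
      exact (hcyc g hg hcy).1 (by rw [← Equiv.Perm.sum_cycleType, hn]; simp)
    · rw [hn]; rfl
    · omega

end CfsgLib.Perm.DegEleven
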