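import Cfsg.Agent.Lib.Spor.OuterAut
import Cfsg.Agent.Lib.Char.MEleven.Order.Main
import Cfsg.Agent.Lib.Perm.Groups.PrimeIndex

/-!
# The group of order 7920 on eleven points is sharply 4-transitive
-/

set_option autoImplicit false
set_option linter.unusedSectionVars false
set_option linter.style.haveILetI false

namespace CfsgLib.Perm.DegEleven

open Cfsg MulAction CfsgLib.Perm.Heart CfsgLib.Spor CfsgLib.Spor.OuterAut CfsgLib.Spor.PointSub
open scoped Pointwise

universe u

variable {α : Type u} [Fintype α] [DecidableEq α]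

theorem trans_dodecad {u q : GolayPt} (hu : u ∈ Spor.squareDodecad.erase (some 0))
    (hq : q ∈ Spor.squareDodecad.erase (some 0)) : ∃ g ∈ Spor.M11, g u = q := by
  rw [Finset.mem_erase] at hu hq
  obtain ⟨i, hi, rfl⟩ := cp_surj hu.2 hu.1
  obtain ⟨j, hj, rfl⟩ := cp_surj hq.2 hq.1
  refine ⟨_, Spor.M11.pow_mem cyc_mem (j + 11 - i), ?_⟩
  rw [cyc_pow_apply, ← cp_mod, ← cp_mod j]
  congr 1
  omega

theorem maps_erase {g : Equiv.Perm GolayPt} (hg : g ∈ Spor.M11) {q : GolayPt}
    (hq : q ∈ Spor.squareDodecad.erase (some 0)) : g q ∈ Spor.squareDodecad.erase (some 0) := by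
  rw [Finset.mem_erase] at hq ⊢
  exact ⟨fun e => hq.1 (g.injective (e.trans (mem_M11.1 hg).2.symm)),
    smul_mem_dod (mem_M11.1 hg).1.2 q hq.2⟩

/-- The action of a group isomorphic to `M11` on eleven points. -/
theorem sharply (hα : Fintype.card α = 11) (K : Subgroup (Equiv.Perm α)) [IsPretransitive K α]
    (hc : Nat.card K = 7920) (e : K ≃* Spor.M11) :
    IsMultiplyPretransitive K α 4 ∧ ∀ x : Fin 4 ↪ α, stabilizer K x = ⊥ := by
  classical
  haveI := Fact.mk (show Nat.Prime 11 by norm_num)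
  obtain ⟨a⟩ : Nonempty α := Fintype.card_pos_iff.1 (by omega)
  have hst : Nat.card (stabilizer K a) = 720 := by
    have := card_stabilizer_mul hα K a
    omega
  let ι : K →* Equiv.Perm GolayPt := Spor.M11.subtype.comp e.toMonoidHom
  have hι : Function.Injective ι := fun x y h => e.injective (Spor.M11.subtype_injective h)
  have hιM : ∀ k, ι k ∈ Spor.M11 := fun k => (e k).2
  have hH : (stabilizer K a).map ι ≤ Spor.M11 := by
    rintro _ ⟨k, -, rfl⟩
    exact hιM k
  obtain ⟨u, huD, hu0, hu⟩ := fixes_point_11 (fun g hg => (mem_M11.1 (hH hg)).1.1) squareDodecad_mem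
    (fun g hg => (mem_M11.1 (hH hg)).1.2) OuterAut.zero_mem_dod (fun g hg => (mem_M11.1 (hH hg)).2)
    ((Nat.card_congr ((stabilizer K a).equivMapOfInjective ι hι).toEquiv).symm.trans hst)
  have huO : u ∈ Spor.squareDodecad.erase (some 0) := Finset.mem_erase.2 ⟨hu0, huD⟩
  choose t ht using fun x : α => exists_smul_eq K a x
  let v : α → GolayPt := fun x => ι (t x) u
  have hv : ∀ (k : K) (x : α), v (k • x) = ι k (v x) := by
    intro k x
    have hmem : (k * t x)⁻¹ * t (k • x) ∈ stabilizer K a := by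
      rw [mem_stabilizer_iff, mul_smul, ht, inv_smul_eq_iff, mul_smul, ht]
    have h := hu _ ⟨_, hmem, rfl⟩
    rw [map_mul, map_inv, map_mul, Equiv.Perm.mul_apply, Equiv.Perm.inv_eq_iff_eq, Equiv.Perm.mul_apply] at h
    exact h
  have hvO : ∀ x, v x ∈ Spor.squareDodecad.erase (some 0) := fun x => maps_erase (hιM _) huO
  have hsurj : ∀ q ∈ Spor.squareDodecad.erase (some 0), ∃ x, v x = q := by
    intro q hq
    obtain ⟨g, hg, hgq⟩ := trans_dodecad (hvO a) hq
    refine ⟨e.symm ⟨g, hg⟩ • a, ?_⟩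
    rw [hv, ← hgq]
    simp [ι]
  have himg : Finset.univ.image v = Spor.squareDodecad.erase (some 0) := by
    refine Finset.Subset.antisymm (Finset.image_subset_iff.2 fun x _ => hvO x) fun q hq => ?_
    obtain ⟨x, hx⟩ := hsurj q hq
    exact Finset.mem_image.2 ⟨x, Finset.mem_univ _, hx⟩
  have hinj : Function.Injective v := by
    intro x y hxy
    refine Finset.injOn_of_card_image_eq ?_ (Finset.mem_coe.2 (Finset.mem_univ x)) (Finset.mem_coe.2 (Finset.mem_univ y)) hxy
    rw [himg, Finset.card_erase_of_mem OuterAut.zero_mem_dod, squareDodecad_mem.2, Finset.card_univ, hα]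
  have hfree : ∀ x : Fin 4 ↪ α, stabilizer K x = ⊥ := by
    intro x
    rw [eq_bot_iff]
    intro k hk
    rw [Subgroup.mem_bot]
    refine hι ?_
    rw [map_one]
    refine eq_one_of_five_le (mem_M11.1 (hιM k)).1.1 squareDodecad_mem (mem_M11.1 (hιM k)).1.2 ?_
    have hsub : insert (some 0 : GolayPt) (Finset.univ.image fun i => v (x i)) ⊆ fixIn (ι k) Spor.squareDodecad := by
      refine Finset.insert_subset (mem_fixIn.2 ⟨OuterAut.zero_mem_dod, (mem_M11.1 (hιM k)).2⟩) ?_
      intro q hq
      obtain ⟨i, -, rfl⟩ := Finset.mem_image.1 hq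
      refine mem_fixIn.2 ⟨(Finset.mem_erase.1 (hvO _)).2, ?_⟩
      have hki : k • x i = x i := by
        have := congrArg (fun f : Fin 4 ↪ α => f i) (mem_stabilizer_iff.1 hk)
        exact this
      rw [← hv, hki]
    refine le_trans (le_of_eq ?_) (Finset.card_le_card hsub)
    rw [Finset.card_insert_of_notMem, Finset.card_image_of_injective _ (f := fun i => v (x i)) (fun i j h => x.injective (hinj h)), Finset.card_univ,
      Fintype.card_fin]
    intro hmem
    obtain ⟨i, -, hi⟩ := Finset.mem_image.1 hmem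
    exact (Finset.mem_erase.1 (hvO (x i))).1 hi
  refine ⟨?_, hfree⟩
  obtain ⟨x⟩ : Nonempty (Fin 4 ↪ α) := Function.Embedding.nonempty_of_card_le (by rw [Fintype.card_fin, hα]; norm_num)
  have horb : orbit K x = Set.univ := by
    refine Set.eq_of_subset_of_ncard_le (Set.subset_univ _) ?_ Set.finite_univ
    have h1 := index_stabilizer K x
    rw [hfree x, Subgroup.index_bot, hc] at h1
    refine le_of_eq (Eq.trans ?_ h1)
    rw [Set.ncard_univ, Nat.card_eq_fintype_card, Fintype.card_embedding_eq, Fintype.card_fin, hα]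
    norm_num [Nat.descFactorial]
  refine isPretransitive_iff_base x |>.2 fun y => ?_
  exact mem_orbit_iff.1 (horb ▸ Set.mem_univ y)

end CfsgLib.Perm.DegEleven
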