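import Cfsg.Agent.Lib.Perm.DegEleven.Odd
import Cfsg.Agent.Lib.Perm.DegEleven.M11Act
import Cfsg.Agent.S0498

/-!
# Insoluble transitive groups of degree eleven
-/

set_option autoImplicit false
set_option linter.unusedSectionVars false
set_option linter.style.haveILetI false

namespace CfsgLib.Perm.DegEleven

open MulAction

universe u

variable {α : Type u} [Fintype α] [DecidableEq α]

/-- The group is even. -/
theorem le_alternating (hα : Fintype.card α = 11) (G : Subgroup (Equiv.Perm α)) [IsPretransitive G α]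
    (hG : ¬ Group.IsSolvable G) (hA : ¬ alternatingGroup α ≤ G) : G ≤ alternatingGroup α := by
  classical
  haveI := Fact.mk (show Nat.Prime 11 by norm_num)
  by_contra hGA
  obtain ⟨G₀, hG₀⟩ : ∃ G₀, G₀ = G ⊓ alternatingGroup α := ⟨_, rfl⟩
  have hG₀le : G₀ ≤ G := hG₀ ▸ inf_le_left
  let φ : G →* ℤˣ := (Equiv.Perm.sign).comp G.subtype
  have hker : φ.ker = (G₀.subgroupOf G) := by
    ext x
    simp [φ, MonoidHom.mem_ker, hG₀, Subgroup.mem_subgroupOf, Equiv.Perm.mem_alternatingGroup]
  haveI hn : (G₀.subgroupOf G).Normal := hker ▸ φ.normal_ker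
  have hG₀sol : ¬ Group.IsSolvable G₀ := by
    intro h
    apply hG
    haveI : Group.IsSolvable (G₀.subgroupOf G) :=
      solvable_of_surjective (f := (Subgroup.subgroupOfEquivOfLe hG₀le).symm.toMonoidHom)
        (Subgroup.subgroupOfEquivOfLe _).symm.surjective
    exact solvable_of_ker_le_range (G₀.subgroupOf G).subtype φ (by rw [hker, Subgroup.range_subtype])
  have hne : G₀.subgroupOf G ≠ ⊥ := fun h => hG₀sol (by
    haveI : Subsingleton (G₀.subgroupOf G) := by rw [h]; infer_instance
    haveI : Subsingleton G₀ := (Subgroup.subgroupOfEquivOfLe hG₀le).symm.toEquiv.subsingleton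
    exact isSolvable_of_comm fun a b => Subsingleton.elim _ _)
  haveI := transitive_of_normal_ne_bot hα G _ hn hne
  haveI : IsPretransitive G₀ α := ⟨fun a b => by
    obtain ⟨⟨⟨x, hx⟩, hx'⟩, h⟩ := exists_smul_eq (G₀.subgroupOf G) a b
    exact ⟨⟨x, hx'⟩, h⟩⟩
  have hA₀ : ¬ alternatingGroup α ≤ G₀ := fun h => hA (h.trans hG₀le)
  obtain ⟨hor, hn55, hsimp⟩ := even_orders hα G₀ hG₀sol hA₀ (hG₀ ▸ inf_le_right)
  have hcard : Nat.card G = 2 * Nat.card G₀ := by
    have h1 := (G₀.subgroupOf G).card_mul_index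
    rw [Nat.card_congr (Subgroup.subgroupOfEquivOfLe hG₀le).toEquiv, ← hker, Subgroup.index_ker] at h1
    have hrange : φ.range = ⊤ := by
      rw [Subgroup.eq_top_iff']
      intro u
      rcases Int.units_eq_one_or u with rfl | rfl
      · exact one_mem _
      · obtain ⟨x, hx, hxA⟩ := SetLike.not_le_iff_exists.1 hGA
        rw [Equiv.Perm.mem_alternatingGroup] at hxA
        exact ⟨⟨x, hx⟩, (Int.units_eq_one_or _).resolve_left hxA⟩
    rw [hrange, Subgroup.card_top, Nat.card_eq_fintype_card (α := ℤˣ), Fintype.card_units_int] at h1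
    omega
  rcases hor with h660 | h7920
  · obtain ⟨P⟩ : Nonempty (Sylow 11 G) := inferInstance
    obtain ⟨hdvd, -⟩ := normalizer_facts hα G P
    have hle : Nat.card (Sylow 11 G) ≤ 12 := by
      have e := Subgroup.subgroupOfEquivOfLe hG₀le
      have hdv : 11 ∣ Nat.card (G₀.subgroupOf G) := by rw [Nat.card_congr e.toEquiv, h660]; norm_num
      refine ((card_sylow_le hα G _ hdv).trans (card_sylow_congr e)).trans ?_
      omega
    have hGn := card_sylow_mul G P
    rw [hcard, h660] at hGn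
    have hle' := Nat.le_of_dvd (by norm_num) hdvd
    have heven : Even (Nat.card (Subgroup.normalizer ((P : Subgroup G) : Set G))) := by
      have h110 : Nat.card (Subgroup.normalizer ((P : Subgroup G) : Set G)) = 110 := by nlinarith
      rw [h110]; decide
    have h3t := CfsgLib.Perm.Heart.prime_three_transitive (p := 11) hα G hG P heven
    obtain ⟨a⟩ : Nonempty (Fin 3 ↪ α) := Function.Embedding.nonempty_of_card_le (by rw [Fintype.card_fin, hα]; norm_num)
    have h1 := @index_stabilizer_of_transitive G (Fin 3 ↪ α) _ _ a h3t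
    have h2 : (stabilizer G a).index ∣ 1320 := by
      have := Subgroup.index_dvd_card (stabilizer G a)
      rwa [hcard, h660] at this
    rw [h1, Nat.card_eq_fintype_card, Fintype.card_embedding_eq, Fintype.card_fin, hα] at h2
    norm_num [Nat.descFactorial] at h2
  · haveI := hsimp
    obtain ⟨e⟩ := CfsgLib.Char.MEleven.Order.iso_m11_of_simple h7920
    obtain ⟨g, hg, hgA⟩ := SetLike.not_le_iff_exists.1 hGA
    rw [Equiv.Perm.mem_alternatingGroup] at hgA
    let e' : G₀.subgroupOf G ≃* Cfsg.Spor.M11 := (Subgroup.subgroupOfEquivOfLe hG₀le).trans e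
    let σ : MulAut (G₀.subgroupOf G) := MulAut.conjNormal (⟨g, hg⟩ : G)
    obtain ⟨k, hk⟩ := CfsgLib.Spor.OuterAut.inner_M11 ((e'.symm.trans σ).trans e')
    have key : ∀ x : G₀.subgroupOf G, σ x = e'.symm k * x * (e'.symm k)⁻¹ := by
      intro x
      have h := congrArg (fun f : MulAut Cfsg.Spor.M11 => f (e' x)) hk
      simp only [MulEquiv.trans_apply, MulEquiv.symm_apply_apply, MulAut.conj_apply] at h
      have h' := congrArg e'.symm h
      simpa using h'.symm
    obtain ⟨z, hz⟩ : ∃ z, z = e'.symm k := ⟨_, rfl⟩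
    have hcent : ∀ y ∈ G₀, y * (((z : G) : Equiv.Perm α)⁻¹ * g) = (((z : G) : Equiv.Perm α)⁻¹ * g) * y := by
      intro y hy
      have h := key ⟨⟨y, hG₀le hy⟩, hy⟩
      rw [← hz] at h
      have h' : g * y * g⁻¹ = ((z : G) : Equiv.Perm α) * y * ((z : G) : Equiv.Perm α)⁻¹ :=
        congrArg (fun w : G₀.subgroupOf G => ((w : G) : Equiv.Perm α)) h
      calc y * (((z : G) : Equiv.Perm α)⁻¹ * g)
          = ((z : G) : Equiv.Perm α)⁻¹ * (((z : G) : Equiv.Perm α) * y * ((z : G) : Equiv.Perm α)⁻¹) * g := by group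
        _ = ((z : G) : Equiv.Perm α)⁻¹ * (g * y * g⁻¹) * g := by rw [h']
        _ = (((z : G) : Equiv.Perm α)⁻¹ * g) * y := by group
    have h1 := sign_of_centralize hα G₀ _ hcent
    have hzA : Equiv.Perm.sign ((z : G) : Equiv.Perm α) = 1 := by
      have := z.2
      rw [Subgroup.mem_subgroupOf] at this
      exact Equiv.Perm.mem_alternatingGroup.1 ((hG₀ ▸ inf_le_right : G₀ ≤ alternatingGroup α) this)
    rw [map_mul, map_inv, hzA, inv_one, one_mul] at h1
    exact hgA h1

/-- Degree eleven. -/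
theorem main (hα : Fintype.card α = 11) (G : Subgroup (Equiv.Perm α)) [IsPretransitive G α]
    (hG : ¬ Group.IsSolvable G) (hA : ¬ alternatingGroup α ≤ G) :
    (IsMultiplyPretransitive G α 4 ∧ ∀ x : Fin 4 ↪ α, stabilizer G x = ⊥) ∨
      Nonempty (G ≃* Matrix.ProjectiveSpecialLinearGroup (Fin 2) (ZMod 11)) := by
  classical
  obtain ⟨hor, -, hsimp⟩ := even_orders hα G hG hA (le_alternating hα G hG hA)
  haveI := hsimp
  haveI := Fact.mk (show Nat.Prime 11 by norm_num)
  rcases hor with h | h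
  · exact Or.inr (Cfsg.Agent.S0498.result (G := G) 11 (Or.inl rfl) (by rw [h]; norm_num) (F := ZMod 11) (ZMod.card 11))
  · obtain ⟨e⟩ := CfsgLib.Char.MEleven.Order.iso_m11_of_simple h
    exact Or.inl (sharply hα G h e)

end CfsgLib.Perm.DegEleven
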