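import Cfsg.Agent.Lib.Perm.DegEleven.Orders

/-!
# An odd permutation does not centralize a transitive group of degree eleven
-/

set_option autoImplicit false
set_option linter.unusedSectionVars false
set_option linter.style.haveILetI false

namespace CfsgLib.Perm.DegEleven

open MulAction

universe u

variable {α : Type u} [Fintype α] [DecidableEq α]

theorem sign_of_centralize (hα : Fintype.card α = 11) (K : Subgroup (Equiv.Perm α)) [IsPretransitive K α]
    (c : Equiv.Perm α) (hc : ∀ k ∈ K, k * c = c * k) : Equiv.Perm.sign c = 1 := by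
  classical
  by_contra hs
  have hsc : Equiv.Perm.sign c = -1 := (Int.units_eq_one_or _).resolve_left hs
  have h2 : 2 ∣ orderOf c := by
    by_contra h
    have h1 : (Equiv.Perm.sign c) ^ orderOf c = 1 := by rw [← map_pow, pow_orderOf_eq_one, map_one]
    rw [hsc, (Nat.odd_iff.2 (by omega)).neg_one_pow] at h1
    exact absurd h1 (by decide)
  obtain ⟨m, hm⟩ := h2
  have hd2 : (c ^ m) ^ 2 = 1 := by rw [← pow_mul, mul_comm, ← hm, pow_orderOf_eq_one]
  haveI := Fact.mk Nat.prime_two
  obtain ⟨a, ha⟩ := Equiv.Perm.exists_fixed_point_of_prime (p := 2) (n := 1)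
    (show ¬ 2 ∣ Fintype.card α by rw [hα]; norm_num) (σ := c ^ m) (by simpa using hd2)
  have hd : c ^ m = 1 := by
    refine Equiv.ext fun b => ?_
    obtain ⟨k, rfl⟩ := exists_smul_eq K a b
    have h1 : Commute (k : Equiv.Perm α) (c ^ m) := (Commute.pow_right (hc k k.2) m)
    show (c ^ m) ((k : Equiv.Perm α) a) = (k : Equiv.Perm α) a
    rw [← Equiv.Perm.mul_apply, ← h1.eq, Equiv.Perm.mul_apply, ha]
  have hpos : 0 < orderOf c := orderOf_pos c
  have := Nat.le_of_dvd (by omega) (orderOf_dvd_of_pow_eq_one hd)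
  omega

end CfsgLib.Perm.DegEleven
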