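import Cfsg.Agent.Lib.Perm.DegEleven.Basic

/-!
# Transitive groups of even permutations of degree eleven: the possible orders
-/

set_option autoImplicit false
set_option linter.unusedSectionVars false
set_option linter.style.haveILetI false

namespace CfsgLib.Perm.DegEleven

open MulAction

universe u

variable {α : Type u} [Fintype α] [DecidableEq α]

/-- The order 95040 is impossible: the Sylow 5-subgroups would have the wrong number. -/
theorem card_ne_95040 (hα : Fintype.card α = 11) (K : Subgroup (Equiv.Perm α)) [IsPretransitive K α]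
    (hA : ¬ alternatingGroup α ≤ K) (hKA : K ≤ alternatingGroup α) : Nat.card K ≠ 95040 := by
  classical
  intro h
  haveI := Fact.mk (show Nat.Prime 5 by norm_num)
  obtain ⟨Q⟩ : Nonempty (Sylow 5 K) := inferInstance
  have hQ : Nat.card (Q : Subgroup K) = 5 := by
    rw [Sylow.card_eq_multiplicity, h, show (95040 : ℕ) = 5 * 19008 from rfl,
      Nat.factorization_mul (by norm_num) (by norm_num)]
    simp [Nat.factorization_eq_zero_of_not_dvd (show ¬ 5 ∣ 19008 by norm_num),
      Nat.Prime.factorization_self (show Nat.Prime 5 by norm_num)]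
  obtain ⟨⟨g, hgQ⟩, hg⟩ := exists_prime_orderOf_dvd_card' (G := (Q : Subgroup K)) 5 (by rw [hQ])
  rw [Subgroup.orderOf_mk] at hg
  have hg' : orderOf (g : Equiv.Perm α) = 5 := by rw [Subgroup.orderOf_coe]; exact hg
  have hct := (prime_facts hα K hA).2.2 _ g.2 hg'
  have hS : Nat.card (Subgroup.centralizer {(g : Equiv.Perm α)}) = 50 := by
    rw [Equiv.Perm.nat_card_centralizer, hct, hα]
    simp [Nat.factorial]
  have hnle : ¬ Subgroup.centralizer {(g : Equiv.Perm α)} ≤ alternatingGroup α := fun hle => by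
    have := Equiv.Perm.count_le_one_of_centralizer_le_alternating hle 5
    rw [hct] at this
    simp at this
  have h25 : Nat.card ((alternatingGroup α).subgroupOf (Subgroup.centralizer {(g : Equiv.Perm α)})) = 25 := by
    have h1 := ((alternatingGroup α).subgroupOf (Subgroup.centralizer {(g : Equiv.Perm α)})).card_mul_index
    rw [hS] at h1
    haveI : Nontrivial α := Fintype.one_lt_card_iff_nontrivial.1 (by omega)
    have h2 : ((alternatingGroup α).subgroupOf (Subgroup.centralizer {(g : Equiv.Perm α)})).index ∣ 2 := by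
      have := Subgroup.relIndex_dvd_index_of_normal (H := alternatingGroup α) (K := Subgroup.centralizer {(g : Equiv.Perm α)})
      rwa [Subgroup.relIndex, alternatingGroup.index_eq_two] at this
    rcases (Nat.dvd_prime Nat.prime_two).1 h2 with h3 | h3
    · exact absurd (Subgroup.subgroupOf_eq_top.1 (Subgroup.index_eq_one.1 h3)) hnle
    · rw [h3] at h1; omega
  -- the centralizer of Q in K
  have hC : Nat.card (Subgroup.centralizer ((Q : Subgroup K) : Set K)) ∣ 25 := by
    rw [← h25]
    let f : Subgroup.centralizer ((Q : Subgroup K) : Set K) →*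
        (alternatingGroup α).subgroupOf (Subgroup.centralizer {(g : Equiv.Perm α)}) :=
      { toFun := fun x => ⟨⟨(x : K).1, Subgroup.mem_centralizer_singleton_iff.2
          (congrArg Subtype.val (Subgroup.mem_centralizer_iff.1 x.2 g hgQ)).symm⟩, hKA (x : K).2⟩
        map_one' := rfl
        map_mul' := fun _ _ => rfl }
    refine Subgroup.card_dvd_of_injective f fun x y hxy => ?_
    exact Subtype.ext (Subtype.ext (congrArg (fun z => ((z : Subgroup.centralizer {(g : Equiv.Perm α)}) : Equiv.Perm α)) (congrArg Subtype.val hxy)))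
  have hC' : Nat.card (Subgroup.centralizer ((Q : Subgroup K) : Set K)) ∣ 5 := by
    have h1 := Subgroup.card_subgroup_dvd_card (Subgroup.centralizer ((Q : Subgroup K) : Set K))
    rw [h] at h1
    have h3 := Nat.dvd_gcd hC h1
    rwa [show Nat.gcd 25 95040 = 5 from by norm_num] at h3
  let φ := (Q : Subgroup K).normalizerMonoidHom
  haveI : IsCyclic (Q : Subgroup K) := isCyclic_of_prime_card hQ
  have h4 : Nat.card φ.range ∣ 4 := by
    have h1 := Subgroup.card_subgroup_dvd_card φ.range
    rwa [IsCyclic.card_mulAut, hQ, Nat.totient_prime (by norm_num)] at h1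
  have hN : Nat.card (Subgroup.normalizer ((Q : Subgroup K) : Set K)) ∣ 20 := by
    rw [← φ.ker.card_mul_index, Subgroup.index_ker, show (20 : ℕ) = 5 * 4 from rfl]
    refine mul_dvd_mul ?_ h4
    rw [show φ.ker = _ from Subgroup.normalizerMonoidHom_ker _]
    refine (dvd_of_eq ?_).trans hC'
    exact Nat.card_congr (Subgroup.subgroupOfEquivOfLe (Subgroup.centralizer_le_normalizer _)).toEquiv
  have h5 : 5 ∣ Nat.card (Subgroup.normalizer ((Q : Subgroup K) : Set K)) := by
    have h1 := Subgroup.card_dvd_of_le (Subgroup.le_normalizer (H := (Q : Subgroup K)))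
    rwa [hQ] at h1
  have hmul : Nat.card (Sylow 5 K) * Nat.card (Subgroup.normalizer ((Q : Subgroup K) : Set K)) = 95040 := by
    rw [Sylow.card_eq_index_normalizer Q, mul_comm, ← h]
    exact Subgroup.card_mul_index (Subgroup.normalizer ((Q : Subgroup K) : Set K))
  have hmod : Nat.card (Sylow 5 K) % 5 = 1 := card_sylow_modEq_one 5 K
  obtain ⟨m, hm⟩ := h5
  rw [hm] at hN hmul
  have hm4 : m ∣ 4 := Nat.dvd_of_mul_dvd_mul_left (show 0 < 5 by norm_num) (by simpa using hN)
  have hm' : m ∈ Nat.divisors 4 := Nat.mem_divisors.2 ⟨hm4, by norm_num⟩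
  rw [show Nat.divisors 4 = {1, 2, 4} from by decide] at hm'
  simp only [Finset.mem_insert, Finset.mem_singleton] at hm'
  rcases hm' with rfl | rfl | rfl <;> omega

/-- The orders. -/
theorem even_orders (hα : Fintype.card α = 11) (K : Subgroup (Equiv.Perm α)) [IsPretransitive K α]
    (hK : ¬ Group.IsSolvable K) (hA : ¬ alternatingGroup α ≤ K) (hKA : K ≤ alternatingGroup α) :
    (Nat.card K = 660 ∨ Nat.card K = 7920) ∧ Nat.card K = 55 * Nat.card (Sylow 11 K) ∧ IsSimpleGroup K := by
  classical
  haveI := Fact.mk (show Nat.Prime 11 by norm_num)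
  obtain ⟨h7, h25, -⟩ := prime_facts hα K hA
  have hns : ∀ a b : ℕ, Nat.card K ≠ 5 ^ a * 11 ^ b := fun a b =>
    DegSeven.not_solvable_card K hK 5 11 a b (by norm_num) (by norm_num)
  have hcard : Nat.card K = 55 * Nat.card (Sylow 11 K) :=
    (card_cases hα K hKA).resolve_left fun h => hns 0 1 (by rw [h]; norm_num)
  have hmod : Nat.card (Sylow 11 K) % 11 = 1 := card_sylow_modEq_one 11 K
  obtain ⟨n, hn⟩ : ∃ n, n = Nat.card (Sylow 11 K) := ⟨_, rfl⟩
  rw [← hn] at hcard hmod
  haveI : Nontrivial α := Fintype.one_lt_card_iff_nontrivial.1 (by omega)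
  have hdvd : Nat.card K ∣ 19958400 := by
    have h := Subgroup.card_dvd_of_le hKA
    rwa [nat_card_alternatingGroup, Nat.card_eq_fintype_card (α := α), hα,
      show (Nat.factorial 11) / 2 = 19958400 from rfl] at h
  rw [hcard] at hdvd h7 h25
  have hn' : n ∣ 2 ^ 7 * 3 ^ 4 := by
    have h1 : n ∣ 362880 := Nat.dvd_of_mul_dvd_mul_left (show 0 < 55 by norm_num) (by simpa using hdvd)
    have hc : Nat.Coprime n 35 := by
      rw [show (35 : ℕ) = 5 * 7 from rfl]
      refine Nat.Coprime.mul_right ?_ ?_
      · exact ((Nat.prime_five).coprime_iff_not_dvd.2 fun h => h25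
          (by obtain ⟨c, rfl⟩ := h; exact ⟨11 * c, by ring⟩)).symm
      · exact ((show Nat.Prime 7 by norm_num).coprime_iff_not_dvd.2 fun h => h7 (h.trans ⟨55, by ring⟩)).symm
    exact hc.dvd_of_dvd_mul_right (by simpa using h1)
  have hn3 : n = 1 ∨ n = 12 ∨ n = 144 ∨ n = 1728 := by
    obtain ⟨x, y, hx, hy, rfl⟩ := Nat.dvd_mul.1 hn'
    obtain ⟨a, ha, rfl⟩ := (Nat.dvd_prime_pow Nat.prime_two).1 hx
    obtain ⟨b, hb, rfl⟩ := (Nat.dvd_prime_pow Nat.prime_three).1 hy
    interval_cases a <;> interval_cases b <;> omega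
  have hn4 : n = 12 ∨ n = 144 := by
    rcases hn3 with rfl | h | h | rfl
    · exact absurd hcard (fun h => hns 1 1 (by rw [h]; norm_num))
    · exact Or.inl h
    · exact Or.inr h
    · exact absurd (by rw [hcard]) (card_ne_95040 hα K hA hKA)
  refine ⟨by omega, hn ▸ hcard, ?_⟩
  haveI : Nontrivial K := Finite.one_lt_card_iff_nontrivial.1 (by omega)
  refine ⟨fun M hM => ?_⟩
  haveI := hM
  by_cases hb : M = ⊥
  · exact Or.inl hb
  right
  have h11 := eleven_dvd_normal hα K M hM hb
  haveI := transitive_of_normal_ne_bot hα K M hM hb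
  obtain ⟨M', hM'⟩ : ∃ M', M' = M.map K.subtype := ⟨_, rfl⟩
  subst hM'
  haveI : IsPretransitive (M.map K.subtype) α := ⟨fun a b => by
    obtain ⟨x, hx⟩ := exists_smul_eq M a b
    exact ⟨⟨_, Subgroup.mem_map_of_mem K.subtype x.2⟩, hx⟩⟩
  have e : M ≃* M.map K.subtype := M.equivMapOfInjective _ K.subtype_injective
  have hle := (card_sylow_le hα K M h11).trans (card_sylow_congr e)
  have hMA : M.map K.subtype ≤ alternatingGroup α := (Subgroup.map_subtype_le M).trans hKA
  rcases card_cases hα (M.map K.subtype) hMA with h | h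
  · exfalso
    have h1 : Nat.card (Sylow 11 (M.map K.subtype)) = 1 := by
      obtain ⟨P⟩ : Nonempty (Sylow 11 (M.map K.subtype)) := inferInstance
      have := card_sylow_mul (M.map K.subtype) P
      have h2 := (normalizer_facts hα (M.map K.subtype) P).2
      have h3 := Subgroup.card_le_card_group (Subgroup.normalizer ((P : Subgroup (M.map K.subtype)) : Set (M.map K.subtype)))
      have h4 := Nat.le_of_dvd Nat.card_pos h2
      nlinarith
    omega
  · refine (Subgroup.card_eq_iff_eq_top M).1 (le_antisymm (Subgroup.card_le_card_group M) ?_)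
    rw [Nat.card_congr e.toEquiv, h, hcard, hn]
    exact Nat.mul_le_mul_left 55 hle

end CfsgLib.Perm.DegEleven
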